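import Mathlib
import Cfsg.Agent.Lib.RankOne.AutSpan
import Cfsg.Agent.Lib.LieTwisted.Suzuki

/-!
The Suzuki field: an additive map `A` with `B (θ x * x) = θ (A x) * A x` for an additive `B` is
semilinear.
-/

set_option autoImplicit false
set_option linter.unusedSectionVars false
set_option linter.style.haveILetI false

namespace Cfsg.Agent.Lib.SzSylow

open Cfsg.Agent.Lib.LieTwisted.Suzuki Cfsg.Agent.Lib.RankOne.AutSpan

variable {F : Type*} [Field F] [Fintype F] {m : ℕ} (h : IsSzField F m)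

theorem bilin_eq_zero [Fintype (F ≃+* F)] (N : (F ≃+* F) → (F ≃+* F) → F)
    (hN : ∀ x y, ∑ α, ∑ β, N α β * (α x * β y) = 0) (α β : F ≃+* F) : N α β = 0 := by
  have h1 : ∀ y α, ∑ β, N α β * β y = 0 := fun y =>
    Fintype.linearIndependent_iff.1 (linearIndependent_aut (F := F)) (fun α => ∑ β, N α β * β y) (by
      funext x
      simp only [Finset.sum_apply, Pi.smul_apply, smul_eq_mul, RingHom.coe_coe, Pi.zero_apply]
      rw [← hN x y]
      refine Finset.sum_congr rfl fun α _ => ?_
      rw [Finset.sum_mul]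
      exact Finset.sum_congr rfl fun β _ => by ring)
  exact Fintype.linearIndependent_iff.1 (linearIndependent_aut (F := F)) (N α) (by
    funext y
    simpa using h1 y α) β

/-- A quadratic form in the automorphisms which vanishes has symmetric coefficients and zero
diagonal. -/
theorem quad_eq_zero [CharP F 2] [Fintype (F ≃+* F)] (M : (F ≃+* F) → (F ≃+* F) → F)
    (hM : ∀ x, ∑ α, ∑ β, M α β * (α x * β x) = 0) :
    (∀ α β, M α β = M β α) ∧ ∀ α, M α α = 0 := by
  classical
  have hs : ∀ α β, M α β + M β α = 0 := by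
    refine bilin_eq_zero (fun α β => M α β + M β α) fun x y => ?_
    have h1 := hM (x + y)
    simp only [map_add, add_mul, mul_add, Finset.sum_add_distrib, hM, zero_add, add_zero] at h1
    simp only [add_mul, Finset.sum_add_distrib]
    rw [Finset.sum_comm (f := fun α β => M β α * (α x * β y))]
    simp only [mul_comm (_ : F) (_ : F)] at h1 ⊢
    linear_combination h1
  have hsym : ∀ α β, M α β = M β α := fun α β => CharTwo.add_eq_zero.1 (hs α β)
  refine ⟨hsym, ?_⟩
  have hd : ∀ x, ∑ α, M α α * (α x * α x) = 0 := by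
    intro x
    have h1 : ∑ p : (F ≃+* F) × (F ≃+* F),
        (if p.1 = p.2 then 0 else M p.1 p.2 * (p.1 x * p.2 x)) = 0 := by
      refine Finset.sum_involution (fun p _ => p.swap) (fun p _ => ?_) (fun p _ hp hs' => ?_)
        (fun p _ => Finset.mem_univ _) (fun p _ => Prod.swap_swap p)
      · rcases eq_or_ne p.1 p.2 with e | e
        · simp [Prod.fst_swap, Prod.snd_swap, e]
        · simp only [Prod.fst_swap, Prod.snd_swap, if_neg e, if_neg e.symm, hsym p.2 p.1,
            mul_comm (p.2 x)]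
          exact CharTwo.add_self_eq_zero _
      · exact hp (if_pos (congrArg Prod.snd hs'))
    have h2 := hM x
    rw [← Fintype.sum_prod_type'] at h2
    have h3 : ∀ p : (F ≃+* F) × (F ≃+* F), M p.1 p.2 * (p.1 x * p.2 x) =
        (if p.1 = p.2 then 0 else M p.1 p.2 * (p.1 x * p.2 x)) +
        (if p.1 = p.2 then M p.1 p.2 * (p.1 x * p.2 x) else 0) := fun p => by
      split_ifs <;> simp
    rw [Finset.sum_congr rfl fun p _ => h3 p, Finset.sum_add_distrib, h1, zero_add,
      Fintype.sum_prod_type] at h2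
    simpa using h2
  have hinj : Function.Injective fun α : F ≃+* F => α.trans (frobeniusEquiv F 2) :=
    fun α β e => RingEquiv.ext fun x => (frobeniusEquiv F 2).injective (RingEquiv.congr_fun e x)
  refine Fintype.linearIndependent_iff.1 ((linearIndependent_aut (F := F)).comp _ hinj)
    (fun α => M α α) ?_
  funext x
  simpa [Finset.sum_apply, frobenius_def, sq] using hd x

include h

theorem aut_eq_frobenius (σ : F ≃+* F) : ∃ i < 2 * m + 1, ∀ x, σ x = x ^ 2 ^ i := by
  haveI := h.charTwo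
  haveI : Fact (Nat.Prime 2) := ⟨Nat.prime_two⟩
  letI : Algebra (ZMod 2) F := ZMod.algebra F 2
  obtain ⟨j, hj⟩ := (FiniteField.bijective_frobeniusAlgHom_pow (ZMod 2) F).2
    (autEquiv 2 σ).toAlgHom
  have hfrob : ∀ (k : ℕ) (x : F), ((FiniteField.frobeniusAlgHom (ZMod 2) F ^ k) x) = x ^ 2 ^ k := by
    intro k x
    induction k generalizing x with
    | zero => simp
    | succ k ih =>
      rw [pow_succ', AlgHom.mul_apply, ih, FiniteField.frobeniusAlgHom_apply, ZMod.card, ← pow_mul,
        ← pow_succ]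
  refine ⟨j, ?_, fun x => ?_⟩
  · have h2 := Module.card_eq_pow_finrank (K := ZMod 2) (V := F)
    rw [ZMod.card, h.card] at h2
    have := Nat.pow_right_injective (le_refl 2) h2
    omega
  · rw [← hfrob, show FiniteField.frobeniusAlgHom (ZMod 2) F ^ (j : ℕ) = _ from hj]
    rfl

theorem norm_injective : Function.Injective fun x : F => sg m x * x := by
  intro x y e
  rcases eq_or_ne y 0 with hy | hy
  · subst hy
    simp only [mul_zero] at e
    rcases mul_eq_zero.1 e with e' | e'
    · exact sg_eq_zero.1 e'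
    · exact e'
  have h1 : sg m (x / y) * (x / y) = 1 := by
    have hy' : sg m y ≠ 0 := mt sg_eq_zero.1 hy
    rw [div_eq_mul_inv, sg_mul, sg_inv]
    field_simp
    exact e
  have hne : x / y ≠ 0 := right_ne_zero_of_mul_eq_one h1
  have h2 : sg m (x / y) = (x / y)⁻¹ := eq_inv_of_mul_eq_one_left h1
  have h3 := congrArg (sg m) h2
  rw [h.sg_sg, sg_inv, h2, inv_inv] at h3
  have h4 : x / y = 1 := mul_left_cancel₀ hne (by rw [← sq, h3, mul_one])
  rwa [div_eq_one_iff_eq hy] at h4

/-- An additive map respecting `x ↦ θ x * x` is semilinear. -/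
theorem semilinear (hm : 1 ≤ m) (A B : F →+ F) (hA : A 1 ≠ 0)
    (hN : ∀ x, B (sg m x * x) = sg m (A x) * A x) :
    ∃ i < 2 * m + 1, ∀ x, A x = A 1 * x ^ 2 ^ i := by
  classical
  haveI := h.charTwo
  haveI : Fact (Nat.Prime 2) := ⟨Nat.prime_two⟩
  letI : Algebra (ZMod 2) F := ZMod.algebra F 2
  haveI : Finite (F ≃+* F) := Finite.of_injective (fun e => (e : F → F)) DFunLike.coe_injective
  letI : Fintype (F ≃+* F) := Fintype.ofFinite _
  obtain ⟨c, hc⟩ := exists_coeffs 2 (A.toZModLinearMap 2)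
  obtain ⟨d, hd⟩ := exists_coeffs 2 (B.toZModLinearMap 2)
  simp only [AddMonoidHom.coe_toZModLinearMap] at hc hd
  let θ : F ≃+* F := iterateFrobeniusEquiv F 2 (m + 1)
  have hθ : ∀ x, θ x = sg m x := fun x => iterateFrobeniusEquiv_def ..
  let e : (F ≃+* F) ≃ (F ≃+* F) :=
    { toFun := fun σ => σ.trans θ
      invFun := fun σ => σ.trans θ.symm
      left_inv := fun σ => RingEquiv.ext fun x => θ.symm_apply_apply _
      right_inv := fun σ => RingEquiv.ext fun x => θ.apply_symm_apply _ }
  have he : ∀ σ x, e σ x = sg m (σ x) := fun σ x => hθ _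
  let D : (F ≃+* F) → (F ≃+* F) → F := fun α β => if α = e β then d β else 0
  let W : (F ≃+* F) → (F ≃+* F) → F := fun α β => sg m (c (e.symm α)) * c β
  have hsgsum : ∀ (f : (F ≃+* F) → F), sg m (∑ σ, f σ) = ∑ σ, sg m (f σ) := fun f => by
    rw [← hθ, map_sum]; simp only [hθ]
  obtain ⟨hsym, hdiag⟩ := quad_eq_zero (fun α β => D α β + W α β) fun x => by
    simp only [add_mul, Finset.sum_add_distrib]
    rw [CharTwo.add_eq_zero]
    have h1 : ∑ α, ∑ β, D α β * (α x * β x) = B (sg m x * x) := by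
      rw [Finset.sum_comm, hd]
      refine Finset.sum_congr rfl fun β _ => ?_
      rw [Fintype.sum_eq_single (e β) (fun α hα => by simp only [D, if_neg hα, zero_mul])]
      simp only [D, if_pos rfl, he, map_mul, sg, map_pow]
    have h2 : ∑ α, ∑ β, W α β * (α x * β x) = sg m (A x) * A x := by
      rw [hc, hsgsum, Finset.sum_mul_sum, ← Equiv.sum_comp e]
      refine Finset.sum_congr rfl fun σ _ => Finset.sum_congr rfl fun β _ => ?_
      simp only [W, Equiv.symm_apply_apply, he, sg_mul]
      ring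
    rw [h1, h2, hN]
  have hx4 : ∃ x : F, (x ^ 2) ^ 2 ≠ x := by
    obtain ⟨g, hg⟩ := IsCyclic.exists_ofOrder_eq_natCard (α := Fˣ)
    refine ⟨g, fun hh => ?_⟩
    have h1 : g ^ 3 = 1 := mul_right_cancel (b := g) (by
      rw [← pow_succ, one_mul]; exact Units.ext (by rw [Units.val_pow_eq_pow_val]; linear_combination hh))
    have h2 := Nat.le_of_dvd (by norm_num) (orderOf_dvd_of_pow_eq_one h1)
    rw [hg, Nat.card_eq_fintype_card, Fintype.card_units, h.card] at h2
    have h3 : 2 ^ 3 ≤ 2 ^ (2 * m + 1) := Nat.pow_le_pow_right two_pos (by omega)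
    omega
  have hWdiag : ∀ σ, c σ ≠ 0 → c (e σ) = 0 := fun σ hσ => by
    have h1 := hdiag (e σ)
    have hne : e σ ≠ e (e σ) := fun hh => by
      obtain ⟨x, hx⟩ := hx4
      obtain ⟨y, rfl⟩ := σ.surjective x
      refine hx ?_
      have h5 := RingEquiv.congr_fun (e.injective hh) y
      rw [he] at h5
      have h6 := h.sg_sg (σ y)
      rw [← h5, ← h5] at h6
      rw [← h6, ← h6]
    simp only [D, if_neg hne, zero_add, W, Equiv.symm_apply_apply, mul_eq_zero, sg_eq_zero] at h1
    exact h1.resolve_left hσ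
  have hstep : ∀ σ τ, c σ ≠ 0 → c τ ≠ 0 → σ ≠ τ → τ = e (e σ) := by
    intro σ τ hσ hτ hne
    by_contra hτe
    have h1 := hsym (e σ) τ
    simp only [D, W, Equiv.symm_apply_apply, e.injective.eq_iff, if_neg hne, if_neg hτe, zero_add,
      hWdiag σ hσ, mul_zero] at h1
    exact mul_ne_zero (mt sg_eq_zero.1 hσ) hτ h1
  obtain ⟨σ, hσ⟩ : ∃ σ, c σ ≠ 0 := by
    by_contra! h0
    exact hA (by rw [hc]; simp [h0])
  have huniq : ∀ τ, τ ≠ σ → c τ = 0 := by
    intro τ hne
    by_contra hτ
    have h1 := hstep σ τ hσ hτ hne.symm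
    have h2 := hstep τ σ hτ hσ hne
    rw [h1] at h2
    obtain ⟨x, hx⟩ := hx4
    obtain ⟨y, rfl⟩ := σ.surjective x
    have h3 := RingEquiv.congr_fun h2 y
    simp only [he, h.sg_sg] at h3
    exact hx h3.symm
  have hAσ : ∀ x, A x = c σ * σ x := fun x => by
    rw [hc]; exact Fintype.sum_eq_single σ fun τ hτ => by rw [huniq τ hτ, zero_mul]
  obtain ⟨i, hi, hσi⟩ := aut_eq_frobenius h σ
  exact ⟨i, hi, fun x => by rw [hAσ, hAσ 1, map_one, mul_one, hσi]⟩

end Cfsg.Agent.Lib.SzSylow
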