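import Mathlib
import Cfsg.Prelude.Def_Sz
import Cfsg.Agent.Lib.LieTwisted.SuzukiSylow

/-!
The Sylow `2`-subgroup of the Suzuki group in coordinates: pairs `(a, b)` with multiplication
`(a, b) (c, d) = (a + c, b + d + θ a * c)`.
-/

set_option autoImplicit false
set_option linter.unusedSectionVars false
set_option linter.style.haveILetI false

namespace Cfsg.Agent.Lib.SzSylow

open Cfsg.Agent.Lib.LieTwisted.Suzuki

variable {F : Type*} [Field F] [Fintype F] {m : ℕ}

/-- Coordinates on a group. -/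
structure Coords (F : Type*) [Field F] (m : ℕ) (S : Type*) [Group S] where
  equiv : S ≃ F × F
  mul : ∀ s t : S, equiv (s * t) = ((equiv s).1 + (equiv t).1,
    (equiv s).2 + (equiv t).2 + sg m (equiv s).1 * (equiv t).1)

/-- Coordinates move along isomorphisms. -/
def Coords.trans {S T : Type*} [Group S] [Group T] (c : Coords F m S) (e : T ≃* S) :
    Coords F m T where
  equiv := e.toEquiv.trans c.equiv
  mul s t := by simpa using c.mul (e s) (e t)

theorem exists_coords_unip (h : IsSzField F m) : Nonempty (Coords F m ↥(unip h)) := by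
  let f : F × F → unip h := fun p => ⟨uS h p.1 p.2, h.uS_mem _ _⟩
  have hf : Function.Bijective f := by
    constructor
    · rintro ⟨a, b⟩ ⟨a', b'⟩ e
      obtain ⟨rfl, rfl⟩ := h.uS_coords_inj (congrArg Subtype.val e)
      rfl
    · rintro ⟨_, a, b, rfl⟩
      exact ⟨(a, b), rfl⟩
  refine ⟨⟨(Equiv.ofBijective f hf).symm, fun s t => ?_⟩⟩
  obtain ⟨⟨a, b⟩, rfl⟩ := hf.2 s
  obtain ⟨⟨c, d⟩, rfl⟩ := hf.2 t
  have hmul : f (a, b) * f (c, d) = f (a + c, b + d + sg m a * c) := Subtype.ext (h.uS_mul a b c d)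
  rw [hmul]
  simp only [Equiv.ofBijective_symm_apply_apply]

theorem exists_coords_Sz (h : IsSzField F m) (hm : 1 ≤ m)
    (P : Sylow 2 ↥(Cfsg.Lie.Sz F (2 ^ (m + 1)))) :
    Nonempty (Coords F m ↥(P : Subgroup ↥(Cfsg.Lie.Sz F (2 ^ (m + 1))))) := by
  haveI : Fact (Nat.Prime 2) := ⟨Nat.prime_two⟩
  set e := szEquiv h hm
  haveI : Finite (Cfsg.Lie.Sz F (2 ^ (m + 1))) := Finite.of_equiv _ e.toEquiv
  have hidx : ¬ 2 ∣ ((unip h).map e.toMonoidHom).index := by
    rw [Subgroup.index_map_of_bijective (f := e.toMonoidHom) e.bijective]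
    exact h.index_odd hm
  have hp : IsPGroup 2 ((unip h).map e.toMonoidHom) :=
    (IsPGroup.of_card (n := (2 * m + 1) * 2) (by rw [h.card_unip, h.card, pow_mul])).map _
  obtain ⟨c⟩ := exists_coords_unip h
  exact ⟨c.trans ((P.equiv (hp.toSylow hidx)).trans
    (((unip h).equivMapOfInjective e.toMonoidHom e.injective).symm))⟩

end Cfsg.Agent.Lib.SzSylow
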