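import Mathlib
import Cfsg.Prelude.Def_Solvable
import Cfsg.Prelude.Def_Transfer
import Cfsg.Agent.Lib.SzSylow.Coords
import Cfsg.Agent.Lib.SzSylow.Field
import Cfsg.Agent.Lib.PSolvable.Basic

/-!
Automorphisms of a group with the coordinates of a Sylow `2`-subgroup of the Suzuki group: modulo
the automorphisms trivial on the central quotient they are the maps `a ↦ l * a ^ (2^i)`.
-/

set_option autoImplicit false
set_option linter.unusedSectionVars false
set_option linter.style.haveILetI false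

namespace Cfsg.Agent.Lib.SzSylow

open Cfsg.Agent.Lib.LieTwisted.Suzuki

variable {F : Type*} [Field F] [Fintype F] {m : ℕ} {S : Type*} [Group S]
  (c : Coords F m S) (h : IsSzField F m) (hm : 1 ≤ m)

/-- First coordinate. -/
def Coords.a (s : S) : F := (c.equiv s).1

/-- Second coordinate. -/
def Coords.b (s : S) : F := (c.equiv s).2

theorem Coords.a_mul (s t : S) : c.a (s * t) = c.a s + c.a t := congrArg Prod.fst (c.mul s t)

theorem Coords.b_mul (s t : S) : c.b (s * t) = c.b s + c.b t + sg m (c.a s) * c.a t :=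
  congrArg Prod.snd (c.mul s t)

theorem Coords.ext {s t : S} (h1 : c.a s = c.a t) (h2 : c.b s = c.b t) : s = t :=
  c.equiv.injective (Prod.ext h1 h2)

theorem Coords.a_one : c.a 1 = 0 := by
  have h := c.a_mul 1 1
  rw [one_mul] at h
  linear_combination -h

theorem Coords.b_one : c.b 1 = 0 := by
  have h := c.b_mul 1 1
  rw [one_mul, c.a_one, mul_zero, add_zero] at h
  linear_combination -h

/-- The element with given coordinates. -/
def Coords.pt (x y : F) : S := c.equiv.symm (x, y)

theorem Coords.a_pt (x y : F) : c.a (c.pt x y) = x := by simp [Coords.a, Coords.pt]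

theorem Coords.b_pt (x y : F) : c.b (c.pt x y) = y := by simp [Coords.b, Coords.pt]

theorem Coords.finite (c : Coords F m S) : Finite S := Finite.of_equiv _ c.equiv.symm

include h

theorem Coords.add_self (x : F) : x + x = 0 := by
  haveI := h.charTwo
  exact CharTwo.add_self_eq_zero x

theorem Coords.a_sq (s : S) : c.a (s * s) = 0 := by rw [c.a_mul, Coords.add_self h]

theorem Coords.b_sq (s : S) : c.b (s * s) = sg m (c.a s) * c.a s := by
  rw [c.b_mul, Coords.add_self h, zero_add]

theorem Coords.sq_eq_one_iff {s : S} : s * s = 1 ↔ c.a s = 0 := by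
  constructor
  · intro hs
    have h' := c.b_sq h s
    rw [hs, c.b_one] at h'
    exact (mul_eq_zero.1 h'.symm).elim sg_eq_zero.1 id
  · intro hs
    exact c.ext (by rw [c.a_sq h, c.a_one]) (by rw [c.b_sq h, hs, mul_zero, c.b_one])

theorem Coords.comm_iff (s t : S) :
    s * t = t * s ↔ sg m (c.a s) * c.a t = sg m (c.a t) * c.a s := by
  constructor
  · intro e
    have h' := congrArg c.b e
    rw [c.b_mul, c.b_mul] at h'
    linear_combination h'
  · intro e
    refine c.ext (by rw [c.a_mul, c.a_mul, add_comm]) ?_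
    rw [c.b_mul, c.b_mul]
    linear_combination e

include hm

theorem Coords.mem_center_iff {s : S} : s ∈ Subgroup.center S ↔ c.a s = 0 := by
  rw [Subgroup.mem_center_iff]
  constructor
  · intro hc
    by_contra ha
    obtain ⟨x, hx0, hx1⟩ := h.exists_ne01 hm
    have h1 := (c.comm_iff h s (c.pt 1 0)).1 (hc _).symm
    have h2 := (c.comm_iff h s (c.pt x 0)).1 (hc _).symm
    rw [c.a_pt, mul_one, sg_one, one_mul] at h1
    rw [c.a_pt, h1] at h2
    have hsx : sg m x = x := mul_right_cancel₀ ha (by rw [← h2]; ring)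
    have h3 := h.sg_sg x
    rw [hsx, hsx] at h3
    exact hx1 (mul_left_cancel₀ hx0 (by rw [← sq, ← h3, mul_one]))
  · intro hc t
    exact ((c.comm_iff h s t).2 (by rw [hc, sg_zero, zero_mul, mul_zero])).symm

/-! ### The semilinear automorphisms -/

omit hm in
/-- The map `(a, b) ↦ (l a^(2^i), θ l l b^(2^i))`. -/
def Coords.semiHom (l : F) (i : ℕ) : S →* S :=
  MonoidHom.mk' (fun s => c.pt (l * c.a s ^ 2 ^ i) (sg m l * l * c.b s ^ 2 ^ i)) fun s t => by
    haveI := h.charTwo
    haveI : Fact (Nat.Prime 2) := ⟨Nat.prime_two⟩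
    refine c.ext ?_ ?_
    · simp only [c.a_pt, c.a_mul, add_pow_char_pow]
      ring
    · simp only [c.b_pt, c.b_mul, c.a_pt, add_pow_char_pow, mul_pow, sg_mul, sg_pow]
      ring

omit hm in
theorem Coords.semiHom_bijective (l : Fˣ) (i : ℕ) :
    Function.Bijective (c.semiHom h (l : F) i) := by
  haveI := c.finite
  haveI := h.charTwo
  haveI : Fact (Nat.Prime 2) := ⟨Nat.prime_two⟩
  refine Finite.injective_iff_bijective.1 fun s t e => ?_
  have hl : (l : F) ≠ 0 := l.ne_zero
  have hi : Function.Injective fun x : F => x ^ 2 ^ i :=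
    fun a b e => (iterateFrobenius F 2 i).injective (by simpa [iterateFrobenius_def] using e)
  have ha := congrArg c.a e
  have hb := congrArg c.b e
  simp only [Coords.semiHom, MonoidHom.mk'_apply, c.a_pt, c.b_pt] at ha hb
  exact c.ext (hi (mul_left_cancel₀ hl ha))
    (hi (mul_left_cancel₀ (mul_ne_zero (mt sg_eq_zero.1 hl) hl) hb))

/-- The semilinear automorphism. -/
noncomputable def Coords.semi (l : Fˣ) (i : ℕ) : MulAut S :=
  MulEquiv.ofBijective (c.semiHom h (l : F) i) (c.semiHom_bijective h l i)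

omit hm in
theorem Coords.a_semi (l : Fˣ) (i : ℕ) (s : S) :
    c.a (c.semi h l i s) = (l : F) * c.a s ^ 2 ^ i :=
  c.a_pt _ _

omit hm in
theorem Coords.b_semi (l : Fˣ) (i : ℕ) (s : S) :
    c.b (c.semi h l i s) = sg m (l : F) * l * c.b s ^ 2 ^ i :=
  c.b_pt _ _

omit hm in
/-- The map `(a, b) ↦ (a, b + ψ a)`. -/
def Coords.cenHom (ψ : F →+ F) : S →* S :=
  MonoidHom.mk' (fun s => c.pt (c.a s) (c.b s + ψ (c.a s))) fun s t => by
    refine c.ext ?_ ?_
    · simp only [c.a_pt, c.a_mul]
    · simp only [c.b_pt, c.b_mul, c.a_mul, map_add, c.a_pt]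
      ring

omit hm in
theorem Coords.cenHom_bijective (ψ : F →+ F) : Function.Bijective (c.cenHom ψ) := by
  haveI := c.finite
  refine Finite.injective_iff_bijective.1 fun s t e => ?_
  have ha := congrArg c.a e
  have hb := congrArg c.b e
  simp only [Coords.cenHom, MonoidHom.mk'_apply, c.a_pt, c.b_pt] at ha hb
  rw [ha] at hb
  exact c.ext ha (add_right_cancel hb)

/-- The automorphism trivial on the centre and the central quotient. -/
noncomputable def Coords.cen (ψ : F →+ F) : MulAut S :=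
  MulEquiv.ofBijective (c.cenHom ψ) (c.cenHom_bijective h ψ)

omit hm in
theorem Coords.a_cen (ψ : F →+ F) (s : S) : c.a (c.cen h ψ s) = c.a s := c.a_pt _ _

omit hm in
theorem Coords.b_cen (ψ : F →+ F) (s : S) : c.b (c.cen h ψ s) = c.b s + ψ (c.a s) := c.b_pt _ _

/-! ### Every automorphism -/

omit hm in
theorem Coords.a_apply_eq (hm : 1 ≤ m) (α : MulAut S) {s t : S} (e : c.a s = c.a t) :
    c.a (α s) = c.a (α t) := by
  have h' : c.a (α (s * t)) = 0 := by
    have h1 : (s * t) * (s * t) = 1 := (c.sq_eq_one_iff h).2 (by rw [c.a_mul, e, Coords.add_self h])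
    refine (c.sq_eq_one_iff h).1 ?_
    rw [← map_mul, h1, map_one]
  rw [map_mul, c.a_mul] at h'
  linear_combination h' - Coords.add_self h (c.a (α t))

theorem Coords.classify (α : MulAut S) :
    ∃ l : Fˣ, ∃ i < 2 * m + 1, ∀ s, c.a (α s) = (l : F) * c.a s ^ 2 ^ i ∧
      (c.a s = 0 → c.b (α s) = sg m (l : F) * l * c.b s ^ 2 ^ i) := by
  classical
  let A : F →+ F := AddMonoidHom.mk' (fun x => c.a (α (c.pt x 0))) fun x y => by
    rw [← c.a_mul, ← map_mul]
    exact c.a_apply_eq h hm α (by rw [c.a_mul, c.a_pt, c.a_pt, c.a_pt])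
  have hA : ∀ s, c.a (α s) = A (c.a s) := fun s => c.a_apply_eq h hm α (c.a_pt _ _).symm
  have hA0 : ∀ x, A x = 0 → x = 0 := by
    intro x hx
    have h1 : α (c.pt x 0) * α (c.pt x 0) = 1 := (c.sq_eq_one_iff h).2 hx
    rw [← map_mul, map_eq_one_iff α α.injective, c.sq_eq_one_iff h, c.a_pt] at h1
    exact h1
  have hl0 : A 1 ≠ 0 := fun e => one_ne_zero (hA0 1 e)
  let B : F →+ F := AddMonoidHom.mk' (fun x => c.b (α (c.pt 0 x))) fun x y => by
    have e : c.pt 0 (x + y) = c.pt 0 x * c.pt 0 y :=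
      c.ext (by simp [c.a_mul, c.a_pt]) (by simp [c.b_mul, c.a_pt, c.b_pt])
    rw [e, map_mul, c.b_mul, hA, c.a_pt, map_zero, sg_zero, zero_mul, add_zero]
  have hB : ∀ s, c.a s = 0 → c.b (α s) = B (c.b s) := fun s hs => by
    show _ = c.b (α (c.pt 0 (c.b s)))
    congr 2
    exact c.ext (by rw [c.a_pt, hs]) (by rw [c.b_pt])
  have hN : ∀ x, B (sg m x * x) = sg m (A x) * A x := by
    intro x
    have h1 := hB (c.pt x 0 * c.pt x 0) (c.a_sq h _)
    rw [map_mul, c.b_sq h, c.b_sq h, hA, c.a_pt] at h1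
    exact h1.symm
  obtain ⟨i, hi, hAi⟩ := semilinear h hm A B hl0 hN
  refine ⟨Units.mk0 _ hl0, i, hi, fun s => ⟨?_, fun hs => ?_⟩⟩
  · rw [hA, Units.val_mk0, ← hAi]
  · obtain ⟨y, hy⟩ : ∃ y, sg m y * y = c.b s :=
      (Finite.injective_iff_surjective.1 (norm_injective h)) _
    rw [hB s hs, ← hy, hN, hAi y, Units.val_mk0, sg_mul, sg_pow, mul_pow]
    ring

omit hm in
theorem frob_unique {i j : ℕ} (hi : i < 2 * m + 1) (hj : j < 2 * m + 1)
    (e : ∀ x : F, x ^ 2 ^ i = x ^ 2 ^ j) : i = j := by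
  classical
  haveI := h.charTwo
  haveI : Fact (Nat.Prime 2) := ⟨Nat.prime_two⟩
  wlog hle : i ≤ j generalizing i j
  · exact (this hj hi (fun x => (e x).symm) (Nat.le_of_not_le hle)).symm
  obtain ⟨d, rfl⟩ := Nat.exists_eq_add_of_le hle
  by_contra hne
  have hd : ∀ x : F, x ^ 2 ^ d = x := fun x => (iterateFrobenius F 2 i).injective (by
    rw [iterateFrobenius_def, iterateFrobenius_def, ← pow_mul, ← pow_add, add_comm, ← e])
  obtain ⟨g, hg⟩ := IsCyclic.exists_ofOrder_eq_natCard (α := Fˣ)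
  have h1 : g ^ (2 ^ d - 1) = 1 := by
    refine mul_right_cancel (b := g) ?_
    rw [← pow_succ, Nat.sub_add_cancel Nat.one_le_two_pow, one_mul]
    exact Units.ext (by rw [Units.val_pow_eq_pow_val, hd])
  have h2 := Nat.le_of_dvd (by
    have := Nat.one_lt_two_pow (n := d) (by omega); omega) (orderOf_dvd_of_pow_eq_one h1)
  rw [hg, Nat.card_eq_fintype_card, Fintype.card_units, h.card] at h2
  have h3 : 2 ^ d < 2 ^ (2 * m + 1) := Nat.pow_lt_pow_right one_lt_two (by omega)
  have := Nat.one_le_two_pow (n := d)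
  omega

omit hm in
theorem Coords.param_unique {l k : Fˣ} {i j : ℕ} (hi : i < 2 * m + 1) (hj : j < 2 * m + 1)
    (e : ∀ x : F, (l : F) * x ^ 2 ^ i = (k : F) * x ^ 2 ^ j) : l = k ∧ i = j := by
  have h1 : (l : F) = k := by simpa using e 1
  exact ⟨Units.ext h1, frob_unique h hi hj fun x => mul_left_cancel₀ l.ne_zero (by rw [e, h1])⟩

theorem Coords.exists_cen {β : MulAut S} (ha : ∀ s, c.a (β s) = c.a s) :
    ∃ ψ, β = c.cen h ψ := by
  classical
  obtain ⟨l, i, hi, hl⟩ := c.classify h hm β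
  have h0 : ∀ x : F, ((1 : Fˣ) : F) * x ^ 2 ^ 0 = (l : F) * x ^ 2 ^ i := fun x => by
    have h1 := (hl (c.pt x 0)).1
    rw [ha, c.a_pt] at h1
    rw [← h1, Units.val_one, one_mul, pow_zero, pow_one]
  obtain ⟨rfl, rfl⟩ := Coords.param_unique h (by omega) hi h0
  have hbz : ∀ s, c.a s = 0 → c.b (β s) = c.b s := fun s hs => by
    rw [(hl s).2 hs]; simp [sg_one]
  let d : S → F := fun s => c.b (β s) + c.b s
  have hd : ∀ s t, d (s * t) = d s + d t := fun s t => by
    simp only [d, map_mul, c.b_mul, ha]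
    linear_combination Coords.add_self h (sg m (c.a s) * c.a t)
  have hdeq : ∀ {s t}, c.a s = c.a t → d s = d t := fun {s t} e => by
    have h' : d (s * t) = 0 := by
      simp only [d]
      rw [hbz _ (by rw [c.a_mul, e, Coords.add_self h]), Coords.add_self h]
    rw [hd] at h'
    linear_combination h' - Coords.add_self h (d t)
  refine ⟨AddMonoidHom.mk' (fun x => d (c.pt x 0)) (fun x y => ?_),
    MulEquiv.ext fun s => c.ext ?_ ?_⟩
  · rw [← hd]; exact hdeq (by rw [c.a_mul, c.a_pt, c.a_pt, c.a_pt])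
  · rw [ha, c.a_cen]
  · rw [c.b_cen]
    show _ = c.b s + d (c.pt (c.a s) 0)
    rw [hdeq (c.a_pt _ _)]
    simp only [d]
    linear_combination -(Coords.add_self h (c.b s))

omit hm in
theorem card_hom : Nat.card (F →+ F) = 2 ^ ((2 * m + 1) ^ 2) := by
  classical
  haveI := h.charTwo
  haveI : Fact (Nat.Prime 2) := ⟨Nat.prime_two⟩
  letI : Algebra (ZMod 2) F := ZMod.algebra F 2
  have h1 : Module.finrank (ZMod 2) F = 2 * m + 1 := by
    have h2 := Module.card_eq_pow_finrank (K := ZMod 2) (V := F)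
    rw [ZMod.card, h.card] at h2
    exact (Nat.pow_right_injective (le_refl 2) h2).symm
  rw [Nat.card_congr (AddMonoidHom.toZModLinearMapEquiv 2).toEquiv,
    Module.natCard_eq_pow_finrank (K := ZMod 2), Nat.card_zmod, Module.finrank_linearMap, h1]
  ring

include c in
theorem Coords.card_aut : Nat.card (MulAut S) =
    2 ^ ((2 * m + 1) ^ 2) * ((2 * m + 1) * (2 ^ (2 * m + 1) - 1)) := by
  classical
  let Φ : (F →+ F) × Fin (2 * m + 1) × Fˣ → MulAut S := fun p =>
    c.semi h p.2.2 p.2.1 * c.cen h p.1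
  have hΦ : Function.Bijective Φ := by
    constructor
    · rintro ⟨ψ, i, l⟩ ⟨χ, j, k⟩ e
      obtain ⟨rfl, h2⟩ := Coords.param_unique h (l := l) (k := k) i.2 j.2 fun x => by
        have h' := congrArg c.a (DFunLike.congr_fun e (c.pt x 0))
        simp only [Φ, MulAut.mul_apply, c.a_semi, c.a_cen, c.a_pt] at h'
        exact h'
      obtain rfl : i = j := Fin.ext h2
      have h' : c.cen h ψ = c.cen h χ := mul_left_cancel e
      obtain rfl : ψ = χ := DFunLike.ext _ _ fun x => by
        have h'' := congrArg c.b (DFunLike.congr_fun h' (c.pt x 0))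
        simpa only [c.b_cen, c.a_pt, add_right_inj] using h''
      rfl
    · intro α
      obtain ⟨l, i, hi, hl⟩ := c.classify h hm α
      obtain ⟨ψ, hψ⟩ := c.exists_cen h hm (β := (c.semi h l i)⁻¹ * α) fun s => by
        haveI := h.charTwo
        haveI : Fact (Nat.Prime 2) := ⟨Nat.prime_two⟩
        have h1 : c.a (c.semi h l i (((c.semi h l i)⁻¹ * α) s)) = c.a (α s) := by simp
        rw [c.a_semi, (hl s).1] at h1
        exact (iterateFrobenius F 2 i).injective (by
          simpa [iterateFrobenius_def] using mul_left_cancel₀ l.ne_zero h1)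
      exact ⟨(ψ, ⟨i, hi⟩, l), by
        show c.semi h l i * c.cen h ψ = α
        rw [← hψ, mul_inv_cancel_left]⟩
  rw [← Nat.card_eq_of_bijective Φ hΦ, Nat.card_prod, Nat.card_prod, card_hom h,
    Nat.card_fin, Nat.card_eq_fintype_card (α := Fˣ), Fintype.card_units, h.card]

omit h hm in
/-- The automorphisms trivial on the central quotient. -/
def Coords.autCentral : Subgroup (MulAut S) where
  carrier := {α | ∀ s, c.a (α s) = c.a s}
  one_mem' := fun _ => rfl
  mul_mem' := fun {α β} hα hβ s => by rw [MulAut.mul_apply, hα, hβ]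
  inv_mem' := fun {α} hα s => by
    conv_rhs => rw [← α.apply_symm_apply s, hα]
    rfl

theorem Coords.card_autCentral : Nat.card (c.autCentral) = 2 ^ ((2 * m + 1) ^ 2) := by
  rw [← card_hom h]
  refine (Nat.card_eq_of_bijective
    (fun ψ => (⟨c.cen h ψ, c.a_cen h ψ⟩ : c.autCentral)) ⟨fun ψ χ e => ?_, fun α => ?_⟩).symm
  · refine DFunLike.ext _ _ fun x => ?_
    have h' := congrArg c.b (DFunLike.congr_fun (congrArg Subtype.val e) (c.pt x 0))
    simpa only [c.b_cen, c.a_pt, add_right_inj] using h'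
  · obtain ⟨ψ, hψ⟩ := c.exists_cen h hm α.2
    exact ⟨ψ, Subtype.ext hψ.symm⟩

include c in
theorem Coords.pCore_eq : Cfsg.pCore 2 (MulAut S) = c.autCentral := by
  classical
  haveI := c.finite
  haveI : Fact (Nat.Prime 2) := ⟨Nat.prime_two⟩
  haveI := h.charTwo
  refine le_antisymm (fun α hα => ?_) (le_sSup ⟨⟨fun α hα γ s => ?_⟩,
    IsPGroup.of_card (c.card_autCentral h hm)⟩)
  · have hmu : ∀ {γ : MulAut S} {l : Fˣ}, γ ∈ Cfsg.pCore 2 (MulAut S) →
        (∀ s, c.a (γ s) = (l : F) * c.a s) → l = 1 := by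
      intro γ l hγ hg
      have hpw : ∀ (k : ℕ) (s : S), c.a ((γ ^ k) s) = ((l ^ k : Fˣ) : F) * c.a s := by
        intro k
        induction k with
        | zero => intro s; simp
        | succ k ih =>
          intro s
          rw [pow_succ', MulAut.mul_apply, hg, ih, pow_succ']
          simp [mul_assoc]
      obtain ⟨k, hk⟩ := Lib.PSolvable.isPGroup_pCore (p := 2) (G := MulAut S) ⟨γ, hγ⟩
      have h1 := hpw (2 ^ k) (c.pt 1 0)
      rw [show γ ^ 2 ^ k = 1 from congrArg Subtype.val hk, MulAut.one_apply, c.a_pt, mul_one] at h1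
      have h1 : orderOf l ∣ 2 ^ k := orderOf_dvd_of_pow_eq_one (Units.ext h1.symm)
      have h2 : orderOf l ∣ 2 ^ (2 * m + 1) - 1 := by
        refine orderOf_dvd_of_pow_eq_one ?_
        have h3 := pow_card_eq_one' (x := l)
        rwa [Nat.card_eq_fintype_card, Fintype.card_units, h.card] at h3
      refine orderOf_eq_one_iff.1 (Nat.eq_one_of_dvd_coprimes (Nat.Coprime.pow_left k ?_) h1 h2)
      rw [Nat.prime_two.coprime_iff_not_dvd, ← even_iff_two_dvd,
        Nat.even_sub Nat.one_le_two_pow]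
      intro h4
      exact absurd (h4.1 (Nat.even_pow.2 ⟨even_two, by omega⟩)) (by decide)
    obtain ⟨l, i, hi, hl⟩ := c.classify h hm α
    have hfix : ∀ x : F, x ^ 2 ^ i = x := by
      intro x
      by_cases hx : x = 0
      · rw [hx, zero_pow (pow_ne_zero _ two_ne_zero)]
      let u := Units.mk0 x hx
      have hγ : c.semi h u 0 * α * (c.semi h u 0)⁻¹ * α⁻¹ ∈ Cfsg.pCore 2 (MulAut S) :=
        mul_mem ((inferInstance : (Cfsg.pCore 2 (MulAut S)).Normal).conj_mem α hα _) (inv_mem hα)
      have hv := hmu (l := u * (u ^ 2 ^ i)⁻¹) hγ fun s => by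
        obtain ⟨t, rfl⟩ : ∃ t, α ((c.semi h u 0) t) = s :=
          ⟨(c.semi h u 0)⁻¹ (α⁻¹ s), by simp⟩
        simp only [MulAut.mul_apply, MulAut.inv_apply, MulEquiv.symm_apply_apply, c.a_semi, (hl _).1,
          pow_zero, pow_one, Units.val_mul, Units.val_inv_eq_inv_val, Units.val_pow_eq_pow_val,
          mul_pow]
        rw [show (u : F) = x from rfl]
        field_simp
      rw [mul_inv_eq_one] at hv
      exact (congrArg Units.val hv).symm.trans (by simp [u])
    obtain rfl : i = 0 := frob_unique h hi (by omega) fun x => by rw [hfix, pow_zero, pow_one]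
    have hl1 := hmu hα fun s => by simpa using (hl s).1
    intro s
    simpa [hl1] using (hl s).1
  · show c.a ((γ * α * γ⁻¹) s) = c.a s
    rw [MulAut.mul_apply, MulAut.mul_apply, c.a_apply_eq h hm γ (hα (γ⁻¹ s))]
    simp

theorem Coords.autCentral_elementary :
    Cfsg.IsElementaryAbelian 2 (c.autCentral) := by
  refine ⟨⟨⟨fun α β => Subtype.ext ?_⟩⟩, fun α hα => ?_⟩
  · obtain ⟨ψ, hψ⟩ := c.exists_cen h hm α.2
    obtain ⟨χ, hχ⟩ := c.exists_cen h hm β.2
    show (α : MulAut S) * β = β * α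
    rw [hψ, hχ]
    refine MulEquiv.ext fun s => c.ext ?_ ?_
    · simp [MulAut.mul_apply, c.a_cen]
    · simp [MulAut.mul_apply, c.a_cen, c.b_cen]; ring
  · obtain ⟨ψ, rfl⟩ := c.exists_cen h hm hα
    refine MulEquiv.ext fun s => c.ext ?_ ?_
    · simp [pow_two, MulAut.mul_apply, c.a_cen]
    · simp only [pow_two, MulAut.mul_apply, c.a_cen, c.b_cen, MulAut.one_apply]
      linear_combination Coords.add_self h (ψ (c.a s))

end Cfsg.Agent.Lib.SzSylow
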